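import Groth.Prelude.Def_FrobAlg
import Mathlib

/-!
The perfect closure as a union of pure projective submodules when Frobenius is projective.
-/

set_option linter.style.haveILetI false

open TensorProduct

namespace Groth.Agent.H1Perf

universe u

variable (p : ℕ) [Fact p.Prime] (R : Type u) [CommRing R] [CharP R p]

/-- A copy of `R`, an algebra by the `n`th iterate of Frobenius. -/
@[nolint unusedArguments]
def St (p : ℕ) (R : Type u) (_n : ℕ) : Type u := R

instance (n : ℕ) : CommRing (St p R n) := inferInstanceAs (CommRing R)

/-- The identity map. -/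
def toSt (n : ℕ) : R ≃+* St p R n := RingEquiv.refl R

noncomputable instance (n : ℕ) : Algebra R (St p R n) :=
  ((toSt p R n : R →+* St p R n).comp (iterateFrobenius R p n)).toAlgebra

theorem algebraMap_st (n : ℕ) (a : R) : algebraMap R (St p R n) a = toSt p R n (a ^ p ^ n) := rfl

theorem projective_trans {A B M : Type u} [CommRing A] [CommRing B] [Algebra A B] [AddCommGroup M]
    [Module A M] [Module B M] [IsScalarTower A B M] [Module.Projective A B] [Module.Projective B M] :
    Module.Projective A M := by
  classical
  obtain ⟨s, hs⟩ := Module.projective_def'.1 (inferInstance : Module.Projective B M)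
  haveI : Module.Projective A (M →₀ B) := Module.Projective.of_equiv (finsuppLequivDFinsupp A).symm
  exact Module.Projective.of_split (s.restrictScalars A) ((Finsupp.linearCombination B id).restrictScalars A)
    (LinearMap.ext fun m => LinearMap.congr_fun hs m)

variable [Module.Projective R (FrobAlg.Twist p R)]

include p in
theorem isReduced_of_projective : _root_.IsReduced R := by
  haveI : Algebra.IsIntegral R (FrobAlg.Twist p R) := ⟨fun z => by
    refine IsIntegral.of_pow (Fact.out : p.Prime).pos ?_
    rw [show z ^ p = algebraMap R (FrobAlg.Twist p R) ((FrobAlg.toTwist p R).symm z) from rfl]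
    exact isIntegral_algebraMap⟩
  have hsurj : Function.Surjective (PrimeSpectrum.comap (algebraMap R (FrobAlg.Twist p R))) := by
    intro P
    refine ⟨PrimeSpectrum.comap (FrobAlg.toTwist p R).symm.toRingHom P, PrimeSpectrum.ext ?_⟩
    ext a
    show (FrobAlg.toTwist p R).symm (FrobAlg.toTwist p R (a ^ p)) ∈ P.asIdeal ↔ a ∈ P.asIdeal
    rw [RingEquiv.symm_apply_apply]
    exact P.2.pow_mem_iff_mem p (Fact.out : p.Prime).pos
  haveI : Module.FaithfullyFlat R (FrobAlg.Twist p R) := Module.FaithfullyFlat.of_comap_surjective hsurj
  have hinj : Function.Injective (algebraMap R (FrobAlg.Twist p R)) := FaithfulSMul.algebraMap_injective _ _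
  refine (isReduced_iff_pow_one_lt p (Fact.out : p.Prime).one_lt).2 fun r hr => hinj ?_
  rw [map_zero, FrobAlg.algebraMap_twist, hr, map_zero]

theorem projective_st : ∀ n, Module.Projective R (St p R n)
  | 0 => by
    let e : R ≃ₗ[R] St p R 0 :=
      { (toSt p R 0).toAddEquiv with
        map_smul' := fun a x => by
          show toSt p R 0 (a * x) = algebraMap R (St p R 0) a * toSt p R 0 x
          rw [algebraMap_st, map_mul, pow_zero, pow_one] }
    exact Module.Projective.of_equiv e
  | n + 1 => by
    haveI := projective_st n
    -- `St (n+1)` is `St n` over the twisted copy of `R`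
    letI : Algebra (FrobAlg.Twist p R) (St p R (n + 1)) :=
      (((toSt p R (n + 1) : R →+* St p R (n + 1)).comp (iterateFrobenius R p n)).comp
        ((FrobAlg.toTwist p R).symm : FrobAlg.Twist p R →+* R)).toAlgebra
    haveI : IsScalarTower R (FrobAlg.Twist p R) (St p R (n + 1)) := IsScalarTower.of_algebraMap_eq fun a => by
      show toSt p R (n + 1) (a ^ p ^ (n + 1)) = toSt p R (n + 1) ((a ^ p) ^ p ^ n)
      rw [← pow_mul, pow_succ']
    let σ : R →+* FrobAlg.Twist p R := FrobAlg.toTwist p R
    haveI : RingHomInvPair (σ : R →+* FrobAlg.Twist p R) ((FrobAlg.toTwist p R).symm : FrobAlg.Twist p R →+* R) :=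
      RingHomInvPair.of_ringEquiv (FrobAlg.toTwist p R)
    haveI : RingHomInvPair ((FrobAlg.toTwist p R).symm : FrobAlg.Twist p R →+* R) (σ : R →+* FrobAlg.Twist p R) :=
      RingHomInvPair.of_ringEquiv (FrobAlg.toTwist p R).symm
    let e : St p R n ≃ₛₗ[σ] St p R (n + 1) :=
      { ((toSt p R n).symm.trans (toSt p R (n + 1))).toAddEquiv with
        map_smul' := fun _ _ => rfl }
    haveI : Module.Projective (FrobAlg.Twist p R) (St p R (n + 1)) := Module.Projective.of_ringEquiv e
    exact projective_trans (B := FrobAlg.Twist p R)

section Closure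

set_option linter.unusedSectionVars false

variable [Algebra R (PerfectClosure R p)] (halg : ∀ r : R, algebraMap R (PerfectClosure R p) r = PerfectClosure.of R p r)

theorem mk_add (n : ℕ) (a b : R) :
    PerfectClosure.mk R p (n, a) + PerfectClosure.mk R p (n, b) = PerfectClosure.mk R p (n, a + b) := by
  haveI := isReduced_of_projective p R
  rw [PerfectClosure.mk_add_mk, PerfectClosure.eq_iff]
  simp only [iterate_map_add, ← Function.iterate_add_apply]

theorem mk_mul (n : ℕ) (a b : R) :
    PerfectClosure.mk R p (n, a) * PerfectClosure.mk R p (n, b) = PerfectClosure.mk R p (n, a * b) := by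
  haveI := isReduced_of_projective p R
  rw [PerfectClosure.mk_mul_mk, PerfectClosure.eq_iff]
  simp only [iterate_map_mul, ← Function.iterate_add_apply]

/-- The inclusion of the `n`th stage. -/
noncomputable def ψ (n : ℕ) : St p R n →+* PerfectClosure R p where
  toFun x := PerfectClosure.mk R p (n, (toSt p R n).symm x)
  map_one' := by
    haveI := isReduced_of_projective p R
    rw [map_one, PerfectClosure.one_def, PerfectClosure.eq_iff]; simp
  map_mul' a b := by rw [map_mul, mk_mul]
  map_zero' := by rw [map_zero, PerfectClosure.mk_zero_right]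
  map_add' a b := by rw [map_add, mk_add]

include halg in
theorem exists_stage {X : Type u} [AddCommGroup X] [Module R X] (z : PerfectClosure R p ⊗[R] X) :
    ∃ (n : ℕ) (i : St p R n →ₗ[R] PerfectClosure R p) (z' : St p R n ⊗[R] X),
      (∀ x, i x = ψ p R n x) ∧ i.rTensor X z' = z := by
  haveI := isReduced_of_projective p R
  have hlin : ∀ n, ∃ i : St p R n →ₗ[R] PerfectClosure R p, ∀ x, i x = ψ p R n x := fun n =>
    ⟨{ toFun := ψ p R n
       map_add' := map_add _
       map_smul' := fun a x => by
        rw [RingHom.id_apply, Algebra.smul_def, map_mul, Algebra.smul_def, halg]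
        congr 1
        show PerfectClosure.mk R p (n, a ^ p ^ n) = PerfectClosure.of R p a
        rw [PerfectClosure.of_apply, PerfectClosure.eq_iff, iterate_frobenius, iterate_frobenius]
        simp }, fun _ => rfl⟩
  choose i hi using hlin
  suffices h : ∃ n, ∀ m ≥ n, ∃ z', (i m).rTensor X z' = z by
    obtain ⟨n, hn⟩ := h
    obtain ⟨z', hz'⟩ := hn n le_rfl
    exact ⟨n, i n, z', hi n, hz'⟩
  induction z using TensorProduct.induction_on with
  | zero => exact ⟨0, fun m _ => ⟨0, map_zero _⟩⟩
  | tmul s x =>
    obtain ⟨⟨n, a⟩, rfl⟩ := PerfectClosure.mk_surjective R p s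
    refine ⟨n, fun m hm => ⟨toSt p R m ((frobenius R p)^[m - n] a) ⊗ₜ x, ?_⟩⟩
    rw [LinearMap.rTensor_tmul, hi]
    congr 1
    show PerfectClosure.mk R p (m, (toSt p R m).symm (toSt p R m _)) = _
    rw [RingEquiv.symm_apply_apply, PerfectClosure.eq_iff]
    show (frobenius R p)^[n] ((frobenius R p)^[m - n] a) = (frobenius R p)^[m] a
    rw [← Function.iterate_add_apply, Nat.add_sub_cancel' hm]
  | add s t hs ht =>
    obtain ⟨n, hn⟩ := hs
    obtain ⟨m, hm⟩ := ht
    refine ⟨max n m, fun k hk => ?_⟩
    obtain ⟨s', hs'⟩ := hn k ((le_max_left _ _).trans hk)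
    obtain ⟨t', ht'⟩ := hm k ((le_max_right _ _).trans hk)
    exact ⟨s' + t', by rw [map_add, hs', ht']⟩

include halg in
theorem rTensor_injective (hff : Module.FaithfullyFlat R (PerfectClosure R p)) (n : ℕ)
    (i : St p R n →ₗ[R] PerfectClosure R p) (hi : ∀ x, i x = ψ p R n x)
    (X : Type u) [AddCommGroup X] [Module R X] : Function.Injective (i.rTensor X) := by
  haveI := isReduced_of_projective p R
  letI : Algebra (St p R n) (PerfectClosure R p) := (ψ p R n).toAlgebra
  haveI : IsScalarTower R (St p R n) (PerfectClosure R p) := IsScalarTower.of_algebraMap_eq fun a => by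
    rw [halg]
    show PerfectClosure.of R p a = PerfectClosure.mk R p (n, a ^ p ^ n)
    rw [PerfectClosure.of_apply, PerfectClosure.eq_iff, iterate_frobenius, iterate_frobenius]
    simp
  -- the stage is isomorphic to `R` compatibly with the automorphism `x ↦ x ^ p ^ n` of the closure
  haveI : Module.FaithfullyFlat (St p R n) (PerfectClosure R p) := by
    have h1 : (algebraMap R (PerfectClosure R p)).FaithfullyFlat := (RingHom.faithfullyFlat_algebraMap_iff).2 hff
    let σ : PerfectClosure R p ≃+* PerfectClosure R p := iterateFrobeniusEquiv (PerfectClosure R p) p n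
    have h2 : ψ p R n = (σ.symm : PerfectClosure R p →+* PerfectClosure R p).comp
        ((algebraMap R (PerfectClosure R p)).comp ((toSt p R n).symm : St p R n →+* R)) := by
      refine RingHom.ext fun x => ?_
      show _ = σ.symm (algebraMap R (PerfectClosure R p) ((toSt p R n).symm x))
      rw [RingEquiv.eq_symm_apply, halg, iterateFrobeniusEquiv_apply, iterateFrobenius_def]
      show PerfectClosure.mk R p (n, (toSt p R n).symm x) ^ p ^ n = PerfectClosure.of R p _
      rw [PerfectClosure.mk_pow, PerfectClosure.of_apply, PerfectClosure.eq_iff, iterate_frobenius, iterate_frobenius]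
      simp
    have h3 : (ψ p R n).FaithfullyFlat := by
      rw [h2]
      exact RingHom.FaithfullyFlat.stableUnderComposition _ _
        (RingHom.FaithfullyFlat.stableUnderComposition _ _
          (RingHom.FaithfullyFlat.of_bijective (f := ((toSt p R n).symm : St p R n →+* R)) (toSt p R n).symm.bijective) h1)
        (RingHom.FaithfullyFlat.of_bijective (f := (σ.symm : PerfectClosure R p →+* PerfectClosure R p)) σ.symm.bijective)
    exact (RingHom.faithfullyFlat_algebraMap_iff).1 h3
  let m := TensorProduct.mk (St p R n) (PerfectClosure R p) (St p R n ⊗[R] X) 1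
  have hm : Function.Injective m := Module.FaithfullyFlat.tensorProduct_mk_injective _
  have heq : ∀ z, i.rTensor X z =
      TensorProduct.AlgebraTensorModule.cancelBaseChange R (St p R n) (St p R n) (PerfectClosure R p) X (m z) := fun z => by
    induction z using TensorProduct.induction_on with
    | zero => simp
    | tmul s x =>
      rw [LinearMap.rTensor_tmul, hi]
      show _ = TensorProduct.AlgebraTensorModule.cancelBaseChange R (St p R n) (St p R n) (PerfectClosure R p) X
        ((1 : PerfectClosure R p) ⊗ₜ (s ⊗ₜ x))
      rw [TensorProduct.AlgebraTensorModule.cancelBaseChange_tmul, Algebra.smul_def, mul_one]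
      rfl
    | add a b ha hb => rw [map_add, map_add, map_add, ha, hb]
  intro a b hab
  rw [heq, heq] at hab
  exact hm ((LinearEquiv.injective _) hab)

end Closure

end Groth.Agent.H1Perf
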